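import Groth.Agent.Ega4B.CMGlobal

/-!
# Cohen-Macaulay fibres: base change and composition over fields

* `isCM_field_tensor`: if the fibres of `A → B` are Cohen-Macaulay then `K ⊗[A] B` is Cohen-Macaulay
  for every field `K` essentially of finite type over `A`.
* `isCM_tensor_of_fibres`: `R` a Cohen-Macaulay ring essentially of finite type over `A`, `A → B`
  flat with Cohen-Macaulay fibres: `R ⊗[A] B` is Cohen-Macaulay.
* `isCM_field_tensor_comp`: the tower version.
-/

set_option autoImplicit false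

universe u

open TensorProduct IsLocalRing

namespace K113.CMComp

open LocCoh Groth.Agent Groth.Agent.Ega4C

theorem isCM_equiv {R S : Type u} [CommRing R] [CommRing S] (e : R ≃+* S)
    (h : IsCohenMacaulayRing R) : IsCohenMacaulayRing S :=
  CalgB.CMPoly.isCohenMacaulayRing_of_ringEquiv e

theorem isCM_field_tensor {A B : Type u} [CommRing A] [CommRing B] [Algebra A B]
    (h : ∀ (p : Ideal A) [p.IsPrime], IsCohenMacaulayRing (p.Fiber B))
    (K : Type u) [Field K] [Algebra A K] [Algebra.EssFiniteType A K] :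
    IsCohenMacaulayRing (K ⊗[A] B) := by
  let p : Ideal A := RingHom.ker (algebraMap A K)
  have hp : p.IsPrime := RingHom.ker_isPrime _
  let f : p.ResidueField →ₐ[A] K := Ideal.ResidueField.liftₐ p (Algebra.ofId A K) le_rfl (by
    intro x hx
    have hx' : algebraMap A K x ≠ 0 := fun h0 ↦ hx h0
    exact (isUnit_iff_ne_zero.mpr hx'))
  let _ : Algebra p.ResidueField K := f.toRingHom.toAlgebra
  have : IsScalarTower A p.ResidueField K := .of_algebraMap_eq fun x => (f.commutes x).symm
  have hK' : Algebra.EssFiniteType p.ResidueField K := Algebra.EssFiniteType.of_comp A p.ResidueField K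
  have h1 : IsCohenMacaulayRing (K ⊗[p.ResidueField] (p.Fiber B)) :=
    Ega4B.CMGlobal.isCohenMacaulayRing_tensor p.ResidueField K _ (h p)
  exact isCM_equiv (Algebra.TensorProduct.cancelBaseChange A p.ResidueField K K B).toRingEquiv h1

theorem isCM_tensor_of_fibres {A B : Type u} [CommRing A] [CommRing B] [Algebra A B]
    [IsNoetherianRing B] [Module.Flat A B]
    (h : ∀ (p : Ideal A) [p.IsPrime], IsCohenMacaulayRing (p.Fiber B))
    (R : Type u) [CommRing R] [Algebra A R] [Algebra.EssFiniteType A R]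
    (hR : IsCohenMacaulayRing R) : IsCohenMacaulayRing (R ⊗[A] B) := by
  have n1 : IsNoetherianRing (B ⊗[A] R) :=
    CalgB.RegHom6.isNoetherianRing_of_essFiniteType B (B ⊗[A] R)
  have n2 : IsNoetherianRing (R ⊗[A] B) :=
    isNoetherianRing_of_ringEquiv _ (Algebra.TensorProduct.comm A B R).toRingEquiv
  have n3 : IsNoetherianRing R := inferInstance
  refine Ega4B.CMGlobal.isCohenMacaulayRing_of_flat_of_fibres R (R ⊗[A] B) hR fun P hP => ?_
  have hess : Algebra.EssFiniteType A P.ResidueField :=
    Algebra.EssFiniteType.comp A R P.ResidueField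
  exact isCM_equiv
    (Algebra.TensorProduct.cancelBaseChange A R P.ResidueField P.ResidueField B).toRingEquiv.symm
    (isCM_field_tensor h P.ResidueField)

/-- Tower version: `A → B → C` with Cohen-Macaulay fibres, `B → C` flat. -/
theorem isCM_field_tensor_comp {A B C : Type u} [CommRing A] [CommRing B] [CommRing C]
    [Algebra A B] [Algebra B C] [Algebra A C] [IsScalarTower A B C] [IsNoetherianRing B]
    [IsNoetherianRing C] [Module.Flat B C]
    (hAB : ∀ (p : Ideal A) [p.IsPrime], IsCohenMacaulayRing (p.Fiber B))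
    (hBC : ∀ (p : Ideal B) [p.IsPrime], IsCohenMacaulayRing (p.Fiber C))
    (K : Type u) [Field K] [Algebra A K] [Algebra.EssFiniteType A K] :
    IsCohenMacaulayRing (K ⊗[A] C) := by
  have g1 : IsCohenMacaulayRing (B ⊗[A] K) :=
    isCM_equiv (Algebra.TensorProduct.comm A K B).toRingEquiv (isCM_field_tensor hAB K)
  have g2 : IsCohenMacaulayRing ((B ⊗[A] K) ⊗[B] C) :=
    isCM_tensor_of_fibres hBC (B ⊗[A] K) g1
  let e1 : (B ⊗[A] K) ⊗[B] C ≃+* K ⊗[A] C :=
    ((Algebra.TensorProduct.comm B (B ⊗[A] K) C).toRingEquiv.trans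
      (Algebra.TensorProduct.cancelBaseChange A B B C K).toRingEquiv).trans
      (Algebra.TensorProduct.comm A C K).toRingEquiv
  exact isCM_equiv e1 g2

/-- Descent. -/
theorem isCM_field_tensor_of_faithfullyFlat {A B C : Type u} [CommRing A] [CommRing B] [CommRing C]
    [Algebra A B] [Algebra B C] [Algebra A C] [IsScalarTower A B C] [IsNoetherianRing B]
    [IsNoetherianRing C] [Module.FaithfullyFlat B C]
    (K : Type u) [Field K] [Algebra A K] [Algebra.EssFiniteType A K]
    (h : IsCohenMacaulayRing (K ⊗[A] C)) : IsCohenMacaulayRing (K ⊗[A] B) := by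
  let e1 : (B ⊗[A] K) ⊗[B] C ≃+* K ⊗[A] C :=
    ((Algebra.TensorProduct.comm B (B ⊗[A] K) C).toRingEquiv.trans
      (Algebra.TensorProduct.cancelBaseChange A B B C K).toRingEquiv).trans
      (Algebra.TensorProduct.comm A C K).toRingEquiv
  have g1 : IsCohenMacaulayRing ((B ⊗[A] K) ⊗[B] C) := isCM_equiv e1.symm h
  have n1 : IsNoetherianRing (B ⊗[A] K) :=
    CalgB.RegHom6.isNoetherianRing_of_essFiniteType B (B ⊗[A] K)
  have n2 : IsNoetherianRing ((B ⊗[A] K) ⊗[B] C) := inferInstance
  have g2 : IsCohenMacaulayRing (B ⊗[A] K) :=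
    Ega4B.CMGlobal.isCohenMacaulayRing_of_faithfullyFlat (B ⊗[A] K) ((B ⊗[A] K) ⊗[B] C) g1
  exact isCM_equiv (Algebra.TensorProduct.comm A B K).toRingEquiv g2

end K113.CMComp
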