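import Groth.Agent.Ega4C.Thm751
import Groth.Agent.Ega4A.CplFlat
import Groth.Agent.Ega4A.CplQuot
import Groth.Agent.S2621

/-!
# Fibres of `Cpl A → Cpl B` from the closed fibre over `A`

* `compatibleSMul_field`, `fieldTensorEquiv`: for a field `K` over `A'` killed by the ideal `m A'`,
  with `A → A'/mA'` surjective, `K ⊗[A'] M = K ⊗[A] M`.
* `ringP_of_closed_fibre`: the general fibre theorem for a good local property `P`, `A' = Cpl A`,
  `B' = Cpl B`, with the hypothesis on the closed fibre stated over `A`.
-/

set_option autoImplicit false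

universe u

open TensorProduct IsLocalRing

namespace K113.CplFibre

open Groth.Agent Groth.Agent.Ega4C Groth.Agent.Ega4C.LocProp

section Compat

variable {A A' : Type*} [CommRing A] [CommRing A'] [Algebra A A'] (m : Ideal A)

/-- If every element of `A'` is congruent to an element of `A` modulo `mA'` and `m` kills `K`, then
`A'` can be moved across `K ⊗[A] M`. -/
theorem compatibleSMul_field
    (hs : ∀ x : A', ∃ a : A, x - algebraMap A A' a ∈ m.map (algebraMap A A'))
    (K M : Type*) [CommRing K] [Algebra A K] [Algebra A' K] [IsScalarTower A A' K]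
    (hK : ∀ x ∈ m, algebraMap A K x = 0)
    [AddCommGroup M] [Module A M] [Module A' M] [IsScalarTower A A' M] :
    TensorProduct.CompatibleSMul A A' K M := by
  refine ⟨fun r' b y => ?_⟩
  obtain ⟨a, ha⟩ := hs r'
  have key1 : ∀ j ∈ m.map (algebraMap A A'), ∀ (b : K), j • b = 0 := by
    intro j hj b
    have h1 : m.map (algebraMap A A') ≤ RingHom.ker (algebraMap A' K) := by
      rw [Ideal.map_le_iff_le_comap]
      intro x hx
      rw [Ideal.mem_comap, RingHom.mem_ker, ← IsScalarTower.algebraMap_apply]
      exact hK x hx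
    rw [Algebra.smul_def, RingHom.mem_ker.mp (h1 hj), zero_mul]
  have key2 : ∀ j ∈ m.map (algebraMap A A'), ∀ (b : K) (y : M), b ⊗ₜ[A] (j • y) = 0 := by
    intro j hj
    induction hj using Submodule.span_induction with
    | mem x hx =>
      obtain ⟨i, hi, rfl⟩ := hx
      intro b y
      rw [algebraMap_smul, ← TensorProduct.smul_tmul, Algebra.smul_def, hK i hi, zero_mul,
        TensorProduct.zero_tmul]
    | zero => intro b y; rw [zero_smul, TensorProduct.tmul_zero]
    | add x y _ _ hx hy => intro b z; rw [add_smul, TensorProduct.tmul_add, hx, hy, add_zero]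
    | smul c x _ hx =>
      intro b y
      rw [smul_eq_mul, mul_comm, mul_smul]
      exact hx b (c • y)
  have hb : r' • b = a • b := by
    have := key1 _ ha b
    rwa [sub_smul, algebraMap_smul, sub_eq_zero] at this
  have hy : b ⊗ₜ[A] (r' • y) = b ⊗ₜ[A] (a • y) := by
    have := key2 _ ha b y
    rwa [sub_smul, TensorProduct.tmul_sub, sub_eq_zero, algebraMap_smul] at this
  rw [hb, hy, TensorProduct.smul_tmul]

/-- `K ⊗[A'] B = K ⊗[A] B` for a field `K` over the residue ring. -/
theorem nonempty_fieldTensorEquiv
    (hs : ∀ x : A', ∃ a : A, x - algebraMap A A' a ∈ m.map (algebraMap A A'))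
    (K B : Type*) [CommRing K] [Algebra A K] [Algebra A' K] [IsScalarTower A A' K]
    (hK : ∀ x ∈ m, algebraMap A K x = 0)
    [CommRing B] [Algebra A B] [Algebra A' B] [IsScalarTower A A' B] :
    Nonempty (K ⊗[A'] B ≃+* K ⊗[A] B) := by
  have h1 : TensorProduct.CompatibleSMul A A' K B := compatibleSMul_field m hs K B hK
  exact ⟨(Algebra.TensorProduct.equivOfCompatibleSMul A A' A' K B).toRingEquiv⟩

end Compat

section Cpl

variable (A : Type u) [CommRing A] [IsNoetherianRing A] [IsLocalRing A]

theorem exists_sub_mem (x : EGA4.Cpl A) : ∃ a : A, x - algebraMap A (EGA4.Cpl A) a ∈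
    (maximalIdeal A).map (algebraMap A (EGA4.Cpl A)) := by
  obtain ⟨a, ha⟩ := Groth.Agent.Ega4A.CplFlat.surjective_algebraMap_quotient A 1
    (Ideal.Quotient.mk _ x)
  refine ⟨a, ?_⟩
  rw [pow_one] at ha
  rw [← Ideal.Quotient.eq_zero_iff_mem, map_sub, sub_eq_zero]
  exact ha.symm

/-- A field finite over the completion is finite over the residue field of `A`. -/
theorem field_over_cpl (K : Type u) [Field K] [Algebra (EGA4.Cpl A) K] [Algebra A K]
    [IsScalarTower A (EGA4.Cpl A) K] [Module.Finite (EGA4.Cpl A) K] :
    (∀ x ∈ maximalIdeal A, algebraMap A K x = 0) ∧ Module.Finite A K := by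
  have hmax : ((⊥ : Ideal K).comap (algebraMap (EGA4.Cpl A) K)).IsMaximal :=
    Ideal.isMaximal_comap_of_isIntegral_of_isMaximal (⊥ : Ideal K)
  have hker : (⊥ : Ideal K).comap (algebraMap (EGA4.Cpl A) K) = maximalIdeal (EGA4.Cpl A) :=
    IsLocalRing.eq_maximalIdeal hmax
  have h0 : ∀ j ∈ (maximalIdeal A).map (algebraMap A (EGA4.Cpl A)),
      algebraMap (EGA4.Cpl A) K j = 0 := by
    intro j hj
    have h1 : (maximalIdeal A).map (algebraMap A (EGA4.Cpl A)) ≤ maximalIdeal (EGA4.Cpl A) :=
      IsLocalRing.map_maximalIdeal_le _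
    have h2 := h1 hj
    rw [← hker] at h2
    exact h2
  refine ⟨fun x hx => ?_, ?_⟩
  · rw [IsScalarTower.algebraMap_apply A (EGA4.Cpl A) K]
    exact h0 _ (Ideal.mem_map_of_mem _ hx)
  · obtain ⟨s, hs⟩ := (Module.Finite.fg_top (R := EGA4.Cpl A) (M := K))
    refine ⟨⟨s, ?_⟩⟩
    rw [eq_top_iff]
    intro y _
    have hy : y ∈ Submodule.span (EGA4.Cpl A) (s : Set K) := by rw [hs]; trivial
    induction hy using Submodule.span_induction with
    | mem x hx => exact Submodule.subset_span hx
    | zero => exact Submodule.zero_mem _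
    | add x y _ _ hx hy => exact Submodule.add_mem _ (hx trivial) (hy trivial)
    | smul c x _ hx =>
      obtain ⟨a, ha⟩ := exists_sub_mem A c
      have h3 : c • x = a • x := by
        have : (c - algebraMap A (EGA4.Cpl A) a) • x = 0 := by
          rw [Algebra.smul_def, h0 _ ha, zero_mul]
        rwa [sub_smul, algebraMap_smul, sub_eq_zero] at this
      rw [h3]
      exact Submodule.smul_mem _ _ (hx trivial)

end Cpl

section Main

variable {P : ∀ (R : Type u) [CommRing R], Prop}

/-- **Fibres of `Cpl A → B'` from the closed fibre over `A`.** `P` a good local property, `B'` a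
Noetherian local flat local `Cpl A`-algebra with finite residue field extension, such that
`k' ⊗ (k ⊗_A B')` has `P` for all finite extensions `k'` of the residue field of `A`. -/
theorem ringP_of_closed_fibre (hP : GoodProp P)
    (A : Type u) [CommRing A] [IsNoetherianRing A] [IsLocalRing A]
    (B' : Type u) [CommRing B'] [IsNoetherianRing B'] [IsLocalRing B'] [Algebra (EGA4.Cpl A) B']
    [IsLocalHom (algebraMap (EGA4.Cpl A) B')] [Module.Flat (EGA4.Cpl A) B']
    [Algebra A B'] [IsScalarTower A (EGA4.Cpl A) B']
    (hres : Module.Finite A (ResidueField B'))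
    (hfib : ∀ (k' : Type u) [Field k'] [Algebra (maximalIdeal A).ResidueField k'],
      Module.Finite (maximalIdeal A).ResidueField k' →
      RingP P (k' ⊗[(maximalIdeal A).ResidueField] ((maximalIdeal A).Fiber B')))
    (p : Ideal (EGA4.Cpl A)) [p.IsPrime] (F : Type u) [Field F] [Algebra p.ResidueField F]
    [Module.Finite p.ResidueField F] : RingP P (F ⊗[p.ResidueField] (p.Fiber B')) := by
  have hN := Groth.Agent.Ega4A.CplQuot.isNoetherianRing_cpl A
  refine Thm751.main hP (fun D _ _ _ _ => Groth.Agent.S2621.result D) (EGA4.Cpl A) B' ?_ ?_ ?_ p F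
  · rw [IsLocalRing.jacobson_eq_maximalIdeal ⊥ bot_ne_top]
    exact IsLocalRing.map_maximalIdeal_le (algebraMap (EGA4.Cpl A) B')
  · intro n hn
    rw [IsLocalRing.eq_maximalIdeal hn]
    have h2 : IsScalarTower A (EGA4.Cpl A) (ResidueField B') :=
      IsScalarTower.of_algebraMap_eq (fun x => by
        show residue B' (algebraMap A B' x) = residue B' (algebraMap (EGA4.Cpl A) B' _)
        rw [← IsScalarTower.algebraMap_apply])
    exact Module.Finite.of_restrictScalars_finite A (EGA4.Cpl A) (ResidueField B')
  · intro k' _ _ hk'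
    let _ : Algebra A k' := Algebra.compHom k' (algebraMap A (EGA4.Cpl A))
    have _ : IsScalarTower A (EGA4.Cpl A) k' := .of_algebraMap_eq fun x ↦ rfl
    obtain ⟨h1, h2⟩ := field_over_cpl A k'
    obtain ⟨e⟩ := nonempty_fieldTensorEquiv (A := A) (A' := EGA4.Cpl A) (maximalIdeal A)
      (exists_sub_mem A) k' B' h1
    let g : (maximalIdeal A).ResidueField →+* k' :=
      Ideal.ResidueField.lift (maximalIdeal A) (algebraMap A k') (by
        intro x hx
        exact h1 x hx) (by
        intro x hx
        have h3 : IsUnit x := by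
          by_contra hcon
          exact hx ((IsLocalRing.mem_maximalIdeal x).mpr hcon)
        exact h3.map _)
    let _ : Algebra (maximalIdeal A).ResidueField k' := g.toAlgebra
    have _ : IsScalarTower A (maximalIdeal A).ResidueField k' :=
      IsScalarTower.of_algebraMap_eq (fun x => by
        exact (Ideal.ResidueField.lift_algebraMap _ _ _ _ x).symm)
    have hfin : Module.Finite (maximalIdeal A).ResidueField k' :=
      Module.Finite.of_restrictScalars_finite A _ _
    have h4 : RingP P (k' ⊗[A] B') := (hfib k' hfin).of_ringEquiv hP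
      (Algebra.TensorProduct.cancelBaseChange A (maximalIdeal A).ResidueField k' k' B').toRingEquiv
    exact h4.of_ringEquiv hP e.symm

end Main

section Residue

/-- The residue field of the completion of `B` is finite over `A` if that of `B` is. -/
theorem finite_residueField_cpl (A B : Type u) [CommRing A] [CommRing B] [IsNoetherianRing B]
    [IsLocalRing A] [IsLocalRing B] [Algebra A B] [IsLocalHom (algebraMap A B)]
    [Module.Finite (ResidueField A) (ResidueField B)] :
    Module.Finite A (ResidueField (EGA4.Cpl B)) := by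
  have h0 : IsScalarTower A B (EGA4.Cpl B) := IsScalarTower.of_algebraMap_eq fun x => rfl
  have h1 : Module.Finite A (ResidueField A) := inferInstance
  have h2 : IsScalarTower A (ResidueField A) (ResidueField B) :=
    IsScalarTower.of_algebraMap_eq (fun x => rfl)
  have h3 : Module.Finite A (ResidueField B) :=
    Module.Finite.trans (ResidueField A) (ResidueField B)
  let f : ResidueField B →+* ResidueField (EGA4.Cpl B) :=
    IsLocalRing.ResidueField.map (algebraMap B (EGA4.Cpl B))
  have hf : Function.Surjective f := by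
    intro y
    obtain ⟨x, rfl⟩ := IsLocalRing.residue_surjective y
    obtain ⟨b, hb⟩ := exists_sub_mem B x
    refine ⟨residue B b, ?_⟩
    show residue (EGA4.Cpl B) (algebraMap B (EGA4.Cpl B) b) = residue (EGA4.Cpl B) x
    have h4 := (IsLocalRing.map_maximalIdeal_le (algebraMap B (EGA4.Cpl B))) hb
    rw [← sub_eq_zero, ← map_sub, IsLocalRing.residue_eq_zero_iff, ← neg_sub]
    exact neg_mem h4
  have hlin : ∀ (a : A) (x : ResidueField B), f (a • x) = a • f x := by
    intro a x
    rw [Algebra.smul_def, Algebra.smul_def, map_mul]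
    congr 1
  let g : ResidueField B →ₗ[A] ResidueField (EGA4.Cpl B) :=
    { toFun := f, map_add' := map_add f, map_smul' := hlin }
  exact Module.Finite.of_surjective g hf

end Residue

end K113.CplFibre
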