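import Groth.Prelude.Def_EGA4b
import Groth.Agent.Ega4C.NormGeom
import Groth.Agent.Ega4C.NormUnion
import Groth.Agent.Ega4C.GeomRedFib

/-!
# Fibres over arbitrary fields

* `isNormalRing_field_tensor`: all fibres of `A → B` geometrically normal implies `K ⊗[A] B` normal
  for every field `K` over `A`.
* `isGeomNormal_fibres_iff`: the converse.
* `isGeomNormal_fibres_baseChange`, `geomReduced_fibres_baseChange`: base change along any `A → A'`.
* `isGeomNormal_fibres_of_baseChange`: descent.
-/

set_option autoImplicit false

universe u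

open TensorProduct

namespace K113.FieldFib

open Groth.Agent.Ega4C

/-- The residue field embedding at the kernel of a map to a field. -/
theorem exists_algebra_residueField {A K : Type u} [CommRing A] [Field K] [Algebra A K]
    (p : Ideal A) [p.IsPrime] (hp : p = RingHom.ker (algebraMap A K)) :
    ∃ (_ : Algebra p.ResidueField K), IsScalarTower A p.ResidueField K := by
  let _ : Algebra p.ResidueField K := (Ideal.ResidueField.lift p (algebraMap A K) hp.le (by
    intro x hx
    have hx' : algebraMap A K x ≠ 0 := by
      intro h0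
      apply hx
      rw [hp]
      exact h0
    exact isUnit_iff_ne_zero.mpr hx')).toAlgebra
  have : IsScalarTower A p.ResidueField K := .of_algebraMap_eq fun a =>
    (Ideal.ResidueField.lift_algebraMap p (algebraMap A K) _ _ a).symm
  exact ⟨inferInstance, this⟩

section Normal

variable {A B : Type u} [CommRing A] [CommRing B] [Algebra A B]

/-- If all fibres are geometrically normal, then `K ⊗ B` is normal for every field over `A`. -/
theorem isNormalRing_field_tensor
    (h : ∀ (p : Ideal A) [p.IsPrime], EGA4.IsGeomNormal p.ResidueField (p.Fiber B))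
    (K : Type u) [Field K] [Algebra A K] : EGA4.IsNormalRing (K ⊗[A] B) := by
  let p : Ideal A := RingHom.ker (algebraMap A K)
  have hp : p.IsPrime := RingHom.ker_isPrime _
  obtain ⟨_, _⟩ := exists_algebra_residueField (A := A) (K := K) p rfl
  have h1 := NormGeom.isNormalRing_tensor_of_isGeomNormal p.ResidueField (p.Fiber B) (h p) K
  exact NormUnion.isNormalRing_of_ringEquiv
    (Algebra.TensorProduct.cancelBaseChange A p.ResidueField K K B).toRingEquiv.symm h1

/-- Conversely, normality of `K ⊗ B` for fields `K` over `A` gives geometrically normal fibres. -/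
theorem isGeomNormal_of_field_tensor
    (h : ∀ (K : Type u) [Field K] [Algebra A K], EGA4.IsNormalRing (K ⊗[A] B))
    (p : Ideal A) [p.IsPrime] : EGA4.IsGeomNormal p.ResidueField (p.Fiber B) := by
  intro k' _ _ _
  let _ : Algebra A k' := Algebra.compHom k' (algebraMap A p.ResidueField)
  have : IsScalarTower A p.ResidueField k' := .of_algebraMap_eq fun x ↦ rfl
  exact NormUnion.isNormalRing_of_ringEquiv
    (Algebra.TensorProduct.cancelBaseChange A p.ResidueField k' k' B).toRingEquiv (h k')

theorem isGeomNormal_fibres_iff :
    (∀ (p : Ideal A) [p.IsPrime], EGA4.IsGeomNormal p.ResidueField (p.Fiber B)) ↔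
      ∀ (K : Type u) [Field K] [Algebra A K], EGA4.IsNormalRing (K ⊗[A] B) :=
  ⟨fun h K _ _ => isNormalRing_field_tensor h K, fun h p _ => isGeomNormal_of_field_tensor h p⟩

variable (A' : Type u) [CommRing A'] [Algebra A A']

/-- Base change of geometrically normal fibres. -/
theorem isGeomNormal_fibres_baseChange
    (h : ∀ (p : Ideal A) [p.IsPrime], EGA4.IsGeomNormal p.ResidueField (p.Fiber B))
    (p' : Ideal A') [p'.IsPrime] :
    EGA4.IsGeomNormal p'.ResidueField (p'.Fiber (A' ⊗[A] B)) := by
  refine isGeomNormal_of_field_tensor (fun K _ _ => ?_) p'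
  let _ : Algebra A K := Algebra.compHom K (algebraMap A A')
  have : IsScalarTower A A' K := .of_algebraMap_eq fun x ↦ rfl
  exact NormUnion.isNormalRing_of_ringEquiv
    (Algebra.TensorProduct.cancelBaseChange A A' K K B).toRingEquiv (isNormalRing_field_tensor h K)

theorem isNormalHom_baseChange (h : EGA4.IsNormalHom A B) : EGA4.IsNormalHom A' (A' ⊗[A] B) :=
  have := h.1
  ⟨inferInstance, fun p' _ => isGeomNormal_fibres_baseChange A' h.2 p'⟩

/-- Descent of geometrically normal fibres along a base change that is surjective on spectra. -/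
theorem isGeomNormal_fibres_of_baseChange
    (hs : Function.Surjective (PrimeSpectrum.comap (algebraMap A A')))
    (h : ∀ (p' : Ideal A') [p'.IsPrime],
      EGA4.IsGeomNormal p'.ResidueField (p'.Fiber (A' ⊗[A] B)))
    (p : Ideal A) [p.IsPrime] : EGA4.IsGeomNormal p.ResidueField (p.Fiber B) := by
  intro k' _ _ _
  let _ : Algebra A k' := Algebra.compHom k' (algebraMap A p.ResidueField)
  have : IsScalarTower A p.ResidueField k' := .of_algebraMap_eq fun x ↦ rfl
  obtain ⟨P', hP'⟩ := hs ⟨p, ‹_›⟩
  let p' : Ideal A' := P'.asIdeal
  have hp' : p'.IsPrime := P'.2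
  have hcomap : p = RingHom.ker (algebraMap A p'.ResidueField) := by
    have h1 : p = p'.comap (algebraMap A A') := (congrArg PrimeSpectrum.asIdeal hP').symm
    rw [IsScalarTower.algebraMap_eq A A' p'.ResidueField, ← RingHom.comap_ker,
      Ideal.ker_algebraMap_residueField]
    exact h1
  obtain ⟨_, _⟩ := exists_algebra_residueField (A := A) (K := p'.ResidueField) p hcomap
  -- a common extension field of `k'` and `κ(p')`
  have hnt : Nontrivial (k' ⊗[p.ResidueField] p'.ResidueField) := inferInstance
  obtain ⟨m, hm⟩ := Ideal.exists_maximal (k' ⊗[p.ResidueField] p'.ResidueField)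
  let L := (k' ⊗[p.ResidueField] p'.ResidueField) ⧸ m
  let _ : Field L := Ideal.Quotient.field m
  let _ : Algebra p'.ResidueField L :=
    ((Ideal.Quotient.mk m).comp
      (Algebra.TensorProduct.includeRight :
        p'.ResidueField →ₐ[p.ResidueField] k' ⊗[p.ResidueField] p'.ResidueField).toRingHom).toAlgebra
  let _ : Algebra A' L := Algebra.compHom L (algebraMap A' p'.ResidueField)
  have : IsScalarTower A' p'.ResidueField L := .of_algebraMap_eq fun x ↦ rfl
  have hAL : ∀ a : A, algebraMap A L a = algebraMap A' L (algebraMap A A' a) := by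
    intro a
    have e1 : algebraMap A L a = Ideal.Quotient.mk m (algebraMap A _ a) := rfl
    have e2 : algebraMap A' L (algebraMap A A' a) = Ideal.Quotient.mk m
      ((Algebra.TensorProduct.includeRight :
        p'.ResidueField →ₐ[p.ResidueField] k' ⊗[p.ResidueField] p'.ResidueField)
        (algebraMap A' p'.ResidueField (algebraMap A A' a))) := rfl
    rw [e1, e2, ← IsScalarTower.algebraMap_apply A A' p'.ResidueField,
      IsScalarTower.algebraMap_apply A p.ResidueField p'.ResidueField, AlgHom.commutes,
      ← IsScalarTower.algebraMap_apply]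
  have hT : IsScalarTower A A' L := .of_algebraMap_eq hAL
  have hT2 : IsScalarTower A p.ResidueField L := .of_algebraMap_eq fun a => by
    have e1 : algebraMap A L a = Ideal.Quotient.mk m (algebraMap A _ a) := rfl
    have e2 : algebraMap p.ResidueField L (algebraMap A p.ResidueField a) = Ideal.Quotient.mk m
      (algebraMap p.ResidueField (k' ⊗[p.ResidueField] p'.ResidueField)
        (algebraMap A p.ResidueField a)) := rfl
    rw [e1, e2, ← IsScalarTower.algebraMap_apply]
  have h1 : EGA4.IsNormalRing (L ⊗[A'] (A' ⊗[A] B)) := isNormalRing_field_tensor h L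
  have h2 : EGA4.IsNormalRing (L ⊗[A] B) := NormUnion.isNormalRing_of_ringEquiv
    (Algebra.TensorProduct.cancelBaseChange A A' L L B).toRingEquiv.symm h1
  have h3 : EGA4.IsNormalRing (L ⊗[p.ResidueField] (p.Fiber B)) :=
    NormUnion.isNormalRing_of_ringEquiv
      (Algebra.TensorProduct.cancelBaseChange A p.ResidueField L L B).toRingEquiv h2
  exact NormGeom.isNormalRing_tensor_of_tower p.ResidueField k' L (p.Fiber B) h3

end Normal

section Reduced

variable {A B : Type u} [CommRing A] [CommRing B] [Algebra A B]

theorem isGeometricallyReduced_of_field_tensor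
    (h : ∀ (K : Type u) [Field K] [Algebra A K], IsReduced (K ⊗[A] B))
    (p : Ideal A) [p.IsPrime] : Algebra.IsGeometricallyReduced p.ResidueField (p.Fiber B) := by
  refine GeomRedFib.isGeometricallyReduced_of_forall_finite _ fun k' _ _ _ => ?_
  let _ : Algebra A k' := Algebra.compHom k' (algebraMap A p.ResidueField)
  have : IsScalarTower A p.ResidueField k' := .of_algebraMap_eq fun x ↦ rfl
  have := h k'
  exact isReduced_of_injective
    (Algebra.TensorProduct.cancelBaseChange A p.ResidueField k' k' B).toRingEquiv
    (RingEquiv.injective _)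

theorem geomReduced_fibres_iff :
    (∀ (p : Ideal A) [p.IsPrime], Algebra.IsGeometricallyReduced p.ResidueField (p.Fiber B)) ↔
      ∀ (K : Type u) [Field K] [Algebra A K], IsReduced (K ⊗[A] B) :=
  ⟨fun h K _ _ => GeomRedFib.isReduced_field_tensor h K,
    fun h p _ => isGeometricallyReduced_of_field_tensor h p⟩

theorem geomReduced_fibres_baseChange (A' : Type u) [CommRing A'] [Algebra A A']
    (h : ∀ (p : Ideal A) [p.IsPrime], Algebra.IsGeometricallyReduced p.ResidueField (p.Fiber B))
    (p' : Ideal A') [p'.IsPrime] :
    Algebra.IsGeometricallyReduced p'.ResidueField (p'.Fiber (A' ⊗[A] B)) := by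
  refine isGeometricallyReduced_of_field_tensor (fun K _ _ => ?_) p'
  let _ : Algebra A K := Algebra.compHom K (algebraMap A A')
  have : IsScalarTower A A' K := .of_algebraMap_eq fun x ↦ rfl
  have := GeomRedFib.isReduced_field_tensor h K
  exact isReduced_of_injective
    (Algebra.TensorProduct.cancelBaseChange A A' K K B).toRingEquiv (RingEquiv.injective _)

variable {C : Type u} [CommRing C] [Algebra B C] [Algebra A C] [IsScalarTower A B C]

/-- Composition: `A → B` with geometrically reduced fibres, `B → C` flat with geometrically reduced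
fibres. -/
theorem geomReduced_fibres_comp [IsNoetherianRing B] [Module.Flat B C]
    (hAB : ∀ (p : Ideal A) [p.IsPrime], Algebra.IsGeometricallyReduced p.ResidueField (p.Fiber B))
    (hBC : ∀ (q : Ideal B) [q.IsPrime], Algebra.IsGeometricallyReduced q.ResidueField (q.Fiber C))
    (p : Ideal A) [p.IsPrime] : Algebra.IsGeometricallyReduced p.ResidueField (p.Fiber C) := by
  refine isGeometricallyReduced_of_field_tensor (fun K _ _ => ?_) p
  have h1 := GeomRedFib.isReduced_field_tensor hAB K
  have h2 : IsReduced (B ⊗[A] K) := isReduced_of_injective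
    (Algebra.TensorProduct.comm A B K) (AlgEquiv.injective _)
  have h3 : IsReduced (C ⊗[B] (B ⊗[A] K)) :=
    GeomRedFib.isReduced_tensor_of_fibres hBC (B ⊗[A] K)
  have h4 : IsReduced (C ⊗[A] K) := isReduced_of_injective
    (Algebra.TensorProduct.cancelBaseChange A B B C K).symm (AlgEquiv.injective _)
  exact isReduced_of_injective (Algebra.TensorProduct.comm A K C) (AlgEquiv.injective _)

/-- Descent: if `A → C` has geometrically reduced fibres and `B → C` is faithfully flat then `A → B`
has geometrically reduced fibres. -/
theorem geomReduced_fibres_of_faithfullyFlat [Module.FaithfullyFlat B C]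
    (hAC : ∀ (p : Ideal A) [p.IsPrime], Algebra.IsGeometricallyReduced p.ResidueField (p.Fiber C))
    (p : Ideal A) [p.IsPrime] : Algebra.IsGeometricallyReduced p.ResidueField (p.Fiber B) := by
  refine isGeometricallyReduced_of_field_tensor (fun K _ _ => ?_) p
  have h1 := GeomRedFib.isReduced_field_tensor hAC K
  have h2 : IsReduced (C ⊗[A] K) := isReduced_of_injective
    (Algebra.TensorProduct.comm A C K) (AlgEquiv.injective _)
  have h3 : IsReduced (C ⊗[B] (B ⊗[A] K)) := isReduced_of_injective
    (Algebra.TensorProduct.cancelBaseChange A B B C K) (AlgEquiv.injective _)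
  have h4 : IsReduced ((B ⊗[A] K) ⊗[B] C) := isReduced_of_injective
    (Algebra.TensorProduct.comm B (B ⊗[A] K) C) (AlgEquiv.injective _)
  have h5 : IsReduced (B ⊗[A] K) := isReduced_of_injective
    (algebraMap (B ⊗[A] K) ((B ⊗[A] K) ⊗[B] C)) (FaithfulSMul.algebraMap_injective _ _)
  exact isReduced_of_injective (Algebra.TensorProduct.comm A K B) (AlgEquiv.injective _)

end Reduced

end K113.FieldFib
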