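import Groth.Agent.Ega4C.SkFlat

/-!
# Serre's condition on fibres: composition and descent

For `A → B → C`, `r` a prime of `C` over `q` in `B` and `p` in `A`:
`B_q/pB_q → C_r/pC_r` is flat local with closed fibre `C_r/qC_r`; dimension and depth add up.
-/

set_option autoImplicit false

universe u

namespace K113.SkFib

open LocCoh Groth.Agent.Ega4C IsLocalRing Groth.Agent.Ega4C.SkFlat

section Quot

variable (R S : Type u) [CommRing R] [CommRing S] [Algebra R S] [IsLocalRing R] [IsLocalRing S]
  [IsLocalHom (algebraMap R S)]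

/-- Dimension and depth of `S/IS` are the sums of those of `R/I` and of the closed fibre. -/
theorem dim_depth_quot [IsNoetherianRing R] [IsNoetherianRing S] [Module.Flat R S]
    {I : Ideal R} (hI : I ≤ maximalIdeal R) [IsLocalRing (R ⧸ I)]
    [IsLocalRing (S ⧸ I.map (algebraMap R S))] :
    ringKrullDim (S ⧸ I.map (algebraMap R S)) =
      ringKrullDim (R ⧸ I) + ringKrullDim (EGA4.FibRing R S) ∧
    depth (S ⧸ I.map (algebraMap R S)) (S ⧸ I.map (algebraMap R S)) =
      depth (R ⧸ I) (R ⧸ I) + depth (EGA4.FibRing R S) (EGA4.FibRing R S) := by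
  have h3 := FlatLocal.isLocalHom_quot R S hI
  have h4 := FlatLocal.flat_quot R S I
  have e := FlatLocal.fibRingQuotEquiv R S hI
  have h5 := FlatLocal.depth_eq (R ⧸ I) (S ⧸ I.map (algebraMap R S))
  have h6 := FlatLocal.ringKrullDim_eq (R ⧸ I) (S ⧸ I.map (algebraMap R S))
  rw [FlatLocal.depth_self_congr (S := EGA4.FibRing R S) e] at h5
  rw [ringKrullDim_eq_of_ringEquiv (S := EGA4.FibRing R S) e] at h6
  exact ⟨h6, h5⟩

end Quot

section Tower

variable {A B C : Type u} [CommRing A] [CommRing B] [CommRing C]
  [Algebra A B] [Algebra B C] [Algebra A C] [IsScalarTower A B C]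

/-- In a tower `A → B → C` with `B → C` flat, for a prime `r` of `C` over the prime `q` of `B`:
dimension and depth of the local ring of the fibre of `A → C` at `r` are the sums of those of the
fibre of `A → B` at `q` and of the fibre of `B → C` at `r`. -/
theorem dim_depth_tower [IsNoetherianRing B] [IsNoetherianRing C] [Module.Flat B C]
    (r : Ideal C) [r.IsPrime] [IsLocalRing (EGA4.FibLocRing A C r)]
    [IsLocalRing (EGA4.FibLocRing A B (r.comap (algebraMap B C)))]
    [IsLocalRing (EGA4.FibLocRing B C r)] :
    ringKrullDim (EGA4.FibLocRing A C r) =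
      ringKrullDim (EGA4.FibLocRing A B (r.comap (algebraMap B C))) +
        ringKrullDim (EGA4.FibLocRing B C r) ∧
    depth (EGA4.FibLocRing A C r) (EGA4.FibLocRing A C r) =
      depth (EGA4.FibLocRing A B (r.comap (algebraMap B C)))
        (EGA4.FibLocRing A B (r.comap (algebraMap B C))) +
      depth (EGA4.FibLocRing B C r) (EGA4.FibLocRing B C r) := by
  set q : Ideal B := r.comap (algebraMap B C) with hq
  let : Algebra (Localization.AtPrime q) (Localization.AtPrime r) :=
    (Localization.localRingHom q r (algebraMap B C) rfl).toAlgebra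
  have hloc : IsLocalHom (algebraMap (Localization.AtPrime q) (Localization.AtPrime r)) :=
    Localization.isLocalHom_localRingHom q r (algebraMap B C) rfl
  have hflat : Module.Flat (Localization.AtPrime q) (Localization.AtPrime r) :=
    RingHom.Flat.localRingHom (f := algebraMap B C)
      ((RingHom.flat_algebraMap_iff).mpr inferInstance) r q rfl
  have htow : ∀ b : B, algebraMap (Localization.AtPrime q) (Localization.AtPrime r)
      (algebraMap B (Localization.AtPrime q) b) = algebraMap B (Localization.AtPrime r) b := by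
    intro b
    rw [IsScalarTower.algebraMap_apply B C (Localization.AtPrime r)]
    exact Localization.localRingHom_to_map q r (algebraMap B C) rfl b
  have hBtow : IsScalarTower B (Localization.AtPrime q) (Localization.AtPrime r) :=
    IsScalarTower.of_algebraMap_eq fun b => (htow b).symm
  have hAtow : IsScalarTower A (Localization.AtPrime q) (Localization.AtPrime r) :=
    IsScalarTower.of_algebraMap_eq fun a => by
      rw [IsScalarTower.algebraMap_apply A B (Localization.AtPrime q), htow,
        IsScalarTower.algebraMap_apply B C (Localization.AtPrime r),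
        ← IsScalarTower.algebraMap_apply A B C,
        ← IsScalarTower.algebraMap_apply A C (Localization.AtPrime r)]
  have hqp : q.comap (algebraMap A B) = r.comap (algebraMap A C) := by
    rw [hq, Ideal.comap_comap, ← IsScalarTower.algebraMap_eq]
  set I : Ideal (Localization.AtPrime q) :=
    (q.comap (algebraMap A B)).map (algebraMap A (Localization.AtPrime q)) with hI
  have hIle : I ≤ maximalIdeal (Localization.AtPrime q) := by
    rw [hI, Ideal.map_le_iff_le_comap]
    intro a ha
    rw [Ideal.mem_comap, IsScalarTower.algebraMap_apply A B (Localization.AtPrime q),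
      IsLocalization.AtPrime.to_map_mem_maximal_iff (Localization.AtPrime q) q]
    exact ha
  have e1 : I.map (algebraMap (Localization.AtPrime q) (Localization.AtPrime r)) =
      (r.comap (algebraMap A C)).map (algebraMap A (Localization.AtPrime r)) := by
    rw [hI, Ideal.map_map, ← IsScalarTower.algebraMap_eq, hqp]
  have e2 : EGA4.mB (Localization.AtPrime q) (Localization.AtPrime r) =
      (r.comap (algebraMap B C)).map (algebraMap B (Localization.AtPrime r)) := by
    rw [EGA4.mB, ← Localization.AtPrime.map_eq_maximalIdeal, Ideal.map_map,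
      ← IsScalarTower.algebraMap_eq]
  have h1 := FlatLocal.nontrivial_quot (Localization.AtPrime r)
    (FlatLocal.map_le (Localization.AtPrime q) (Localization.AtPrime r) hIle)
  obtain ⟨k1, k2⟩ := dim_depth_quot (Localization.AtPrime q) (Localization.AtPrime r) hIle
  rw [FlatLocal.depth_self_congr (Ideal.quotEquivOfEq e1),
    FlatLocal.depth_self_congr (Ideal.quotEquivOfEq e2)] at k2
  rw [ringKrullDim_eq_of_ringEquiv (Ideal.quotEquivOfEq e1),
    ringKrullDim_eq_of_ringEquiv (Ideal.quotEquivOfEq e2)] at k1
  exact ⟨k1, k2⟩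

end Tower

section Main

variable {A B C : Type u} [CommRing A] [CommRing B] [CommRing C]
  [Algebra A B] [Algebra B C] [Algebra A C] [IsScalarTower A B C]

theorem isNoetherianRing_fibLocRing [IsNoetherianRing C] (r : Ideal C) [r.IsPrime] :
    IsNoetherianRing (EGA4.FibLocRing A C r) := by
  have : IsNoetherianRing (Localization.AtPrime r) :=
    IsLocalization.isNoetherianRing r.primeCompl _ inferInstance
  infer_instance

/-- `MinLe` adds up along towers. -/
theorem minLe_tower [IsNoetherianRing B] [IsNoetherianRing C] [Module.Flat B C] (k : ℕ)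
    (r : Ideal C) [r.IsPrime] [IsLocalRing (EGA4.FibLocRing A C r)]
    [IsLocalRing (EGA4.FibLocRing A B (r.comap (algebraMap B C)))]
    [IsLocalRing (EGA4.FibLocRing B C r)]
    (h1 : MinLe k (EGA4.FibLocRing A B (r.comap (algebraMap B C))))
    (h2 : MinLe k (EGA4.FibLocRing B C r)) : MinLe k (EGA4.FibLocRing A C r) := by
  have n1 := isNoetherianRing_fibLocRing (A := A) r
  have n2 := isNoetherianRing_fibLocRing (A := B) r
  have n3 := isNoetherianRing_fibLocRing (A := A) (r.comap (algebraMap B C))
  obtain ⟨h3, h4⟩ := dim_depth_tower (A := A) (B := B) r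
  obtain ⟨a, ha⟩ := FlatLocal.exists_depth_eq (EGA4.FibLocRing A B (r.comap (algebraMap B C)))
  obtain ⟨b, hb⟩ := FlatLocal.exists_depth_eq (EGA4.FibLocRing A C r)
  obtain ⟨c, hc⟩ := FlatLocal.exists_depth_eq (EGA4.FibLocRing B C r)
  obtain ⟨a', ha'⟩ := FlatLocal.exists_ringKrullDim_eq
    (EGA4.FibLocRing A B (r.comap (algebraMap B C)))
  obtain ⟨b', hb'⟩ := FlatLocal.exists_ringKrullDim_eq (EGA4.FibLocRing A C r)
  obtain ⟨c', hc'⟩ := FlatLocal.exists_ringKrullDim_eq (EGA4.FibLocRing B C r)
  rw [minLe_iff ha' ha] at h1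
  rw [minLe_iff hc' hc] at h2
  rw [minLe_iff hb' hb]
  rw [ha', hb', hc'] at h3
  rw [ha, hb, hc] at h4
  norm_cast at h3 h4
  omega

/-- Composition of flat maps with `(S_k)` fibres. -/
theorem hasSk_fibres_comp [IsNoetherianRing B] [IsNoetherianRing C] [Module.Flat B C] (k : ℕ)
    (hAB : ∀ (p : Ideal A) [p.IsPrime], HasSk k (p.Fiber B) (p.Fiber B))
    (hBC : ∀ (q : Ideal B) [q.IsPrime], HasSk k (q.Fiber C) (q.Fiber C))
    (p : Ideal A) [p.IsPrime] : HasSk k (p.Fiber C) (p.Fiber C) := by
  rw [fiber_hasSk_iff]
  intro r _ _ hrp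
  have i1 := isLocalRing_fibLocRing (B := B) r
  have i2 := isLocalRing_fibLocRing (B := A) (r.comap (algebraMap B C))
  refine minLe_tower (B := B) k r ?_ ?_
  · refine (fiber_hasSk_iff k p).mp (hAB p) _ ?_
    rw [Ideal.comap_comap, ← IsScalarTower.algebraMap_eq, hrp]
  · exact (fiber_hasSk_iff k (r.comap (algebraMap B C))).mp (hBC _) r rfl

/-- For `q` a prime of `B` and `C` flat over `B`, `r` minimal over `qC` lying over `q`: the fibre
local ring of `B → C` at `r` has dimension zero. -/
theorem minLe_base [IsNoetherianRing B] [IsNoetherianRing C] [Module.Flat B C] (k : ℕ)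
    (r : Ideal C) [r.IsPrime] [IsLocalRing (EGA4.FibLocRing A C r)]
    [IsLocalRing (EGA4.FibLocRing A B (r.comap (algebraMap B C)))]
    [IsLocalRing (EGA4.FibLocRing B C r)]
    (h1 : MinLe k (EGA4.FibLocRing A C r))
    (h2 : ringKrullDim (EGA4.FibLocRing B C r) = 0) :
    MinLe k (EGA4.FibLocRing A B (r.comap (algebraMap B C))) := by
  have n1 := isNoetherianRing_fibLocRing (A := A) r
  have n2 := isNoetherianRing_fibLocRing (A := B) r
  have n3 := isNoetherianRing_fibLocRing (A := A) (r.comap (algebraMap B C))
  obtain ⟨h3, h4⟩ := dim_depth_tower (A := A) (B := B) r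
  obtain ⟨a, ha⟩ := FlatLocal.exists_depth_eq (EGA4.FibLocRing A B (r.comap (algebraMap B C)))
  obtain ⟨b, hb⟩ := FlatLocal.exists_depth_eq (EGA4.FibLocRing A C r)
  obtain ⟨c, hc⟩ := FlatLocal.exists_depth_eq (EGA4.FibLocRing B C r)
  obtain ⟨a', ha'⟩ := FlatLocal.exists_ringKrullDim_eq
    (EGA4.FibLocRing A B (r.comap (algebraMap B C)))
  obtain ⟨b', hb'⟩ := FlatLocal.exists_ringKrullDim_eq (EGA4.FibLocRing A C r)
  have h5 := FlatLocal.depth_le_ringKrullDim (EGA4.FibLocRing B C r)
  rw [hc, h2] at h5
  have hc0 : c = 0 := by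
    have : ((c : ℕ∞) : WithBot ℕ∞) ≤ 0 := h5
    norm_cast at this
    omega
  subst hc0
  rw [minLe_iff hb' hb] at h1
  rw [minLe_iff ha' ha]
  rw [ha', hb', h2] at h3
  rw [ha, hb, hc] at h4
  norm_cast at h3 h4
  omega

/-- Descent of `(S_k)` fibres along a faithfully flat map. -/
theorem hasSk_fibres_of_faithfullyFlat [IsNoetherianRing B] [IsNoetherianRing C]
    [Module.FaithfullyFlat B C] (k : ℕ)
    (hAC : ∀ (p : Ideal A) [p.IsPrime], HasSk k (p.Fiber C) (p.Fiber C))
    (p : Ideal A) [p.IsPrime] : HasSk k (p.Fiber B) (p.Fiber B) := by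
  rw [fiber_hasSk_iff]
  intro q _ _ hqp
  -- a prime of `C` minimal over `qC`, lying over `q`
  obtain ⟨⟨r₀, hr₀⟩, hr₀q⟩ :=
    PrimeSpectrum.comap_surjective_of_faithfullyFlat (A := B) (B := C) ⟨q, ‹_›⟩
  have hr₀q' : r₀.comap (algebraMap B C) = q := congrArg PrimeSpectrum.asIdeal hr₀q
  have hle : q.map (algebraMap B C) ≤ r₀ := by
    rw [Ideal.map_le_iff_le_comap, hr₀q']
  obtain ⟨r, hr, hrr₀⟩ := Ideal.exists_minimalPrimes_le hle
  have hrP : r.IsPrime := hr.1.1
  have hrq : r.comap (algebraMap B C) = q := by
    apply le_antisymm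
    · rw [← hr₀q']
      exact Ideal.comap_mono hrr₀
    · rw [← Ideal.map_le_iff_le_comap]
      exact hr.1.2
  subst hrq
  have i1 := isLocalRing_fibLocRing (B := B) r
  have i2 := isLocalRing_fibLocRing (B := A) r
  refine minLe_base (B := B) k r ?_ ?_
  · refine (fiber_hasSk_iff k p).mp (hAC p) r ?_
    rw [← hqp, Ideal.comap_comap, ← IsScalarTower.algebraMap_eq]
  · -- dimension zero
    have hm : maximalIdeal (EGA4.FibLocRing B C r) ∈ minimalPrimes (EGA4.FibLocRing B C r) := by
      rw [minimalPrimes_eq_minimals]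
      refine ⟨inferInstance, fun P hP _ => ?_⟩
      have hP' : P.IsPrime := hP
      have h7 : r ≤ (P.comap (Ideal.Quotient.mk _)).comap
          (algebraMap C (Localization.AtPrime r)) := by
        refine hr.2 ⟨inferInstance, ?_⟩ ?_
        · rw [Ideal.map_le_iff_le_comap]
          intro b hb
          have : Ideal.Quotient.mk ((r.comap (algebraMap B C)).map
              (algebraMap B (Localization.AtPrime r)))
              (algebraMap C (Localization.AtPrime r) (algebraMap B C b)) = 0 := by
            rw [Ideal.Quotient.eq_zero_iff_mem, ← IsScalarTower.algebraMap_apply]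
            exact Ideal.mem_map_of_mem _ hb
          show Ideal.Quotient.mk _ (algebraMap C (Localization.AtPrime r) (algebraMap B C b)) ∈ P
          rw [this]
          exact P.zero_mem
        · intro x hx
          by_contra hxr
          have h8 : IsUnit (algebraMap C (Localization.AtPrime r) x) :=
            IsLocalization.map_units _ (⟨x, hxr⟩ : r.primeCompl)
          exact (Ideal.IsPrime.comap (Ideal.Quotient.mk _) (K := P)).ne_top
            (Ideal.eq_top_of_isUnit_mem _ hx h8)
      intro y hy
      obtain ⟨y, rfl⟩ := Ideal.Quotient.mk_surjective y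
      have hy' : y ∈ maximalIdeal (Localization.AtPrime r) := by
        by_contra hy'
        have : IsUnit y := by
          by_contra h
          exact hy' h
        exact hy (this.map _)
      rw [← Localization.AtPrime.map_eq_maximalIdeal] at hy'
      have h9 : r.map (algebraMap C (Localization.AtPrime r)) ≤ P.comap (Ideal.Quotient.mk _) := by
        rw [Ideal.map_le_iff_le_comap]
        exact h7
      exact h9 hy'
    have h10 : (maximalIdeal (EGA4.FibLocRing B C r)).height = 0 :=
      Ideal.height_eq_zero_iff.mpr hm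
    rw [← IsLocalRing.maximalIdeal_height_eq_ringKrullDim, h10]
    rfl

end Main

end K113.SkFib
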